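import Mathlib
import Groth.Agent.EtaleAlgebra.Milnor
import Groth.Agent.EtaleAlgebra.MilnorSpec
import Groth.Agent.Misc1.Azumaya.Basic

/-!
Azumaya algebras over a Milnor square: an algebra is Azumaya iff its two base changes are.
-/

set_option autoImplicit false

universe u

open TensorProduct

noncomputable section

namespace Groth.AzMilnor

/-- Cancellation of base change, as an algebra equivalence. -/
def cancel (R S T D : Type u) [CommRing R] [CommRing S] [CommRing T] [Algebra R S] [Algebra S T]
    [Algebra R T] [IsScalarTower R S T] [Ring D] [Algebra R D] : T ⊗[S] (S ⊗[R] D) ≃ₐ[T] T ⊗[R] D :=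
  AlgEquiv.symm <| AlgEquiv.ofLinearEquiv
    (TensorProduct.AlgebraTensorModule.cancelBaseChange R S T T D).symm
    (by simp [Algebra.TensorProduct.one_def]) <|
      LinearMap.map_mul_of_map_mul_tmul (fun _ _ _ _ ↦ by simp)

/-- The fibre at a prime in the image of `Spec C` is Azumaya if the base change to `C` is. -/
theorem fibre_isAzumaya {R C : Type u} [CommRing R] [CommRing C] [Algebra R C] (D : Type u) [Ring D]
    [Algebra R D] [Module.Finite R D] [IsAzumaya C (C ⊗[R] D)] (p : Ideal R) [p.IsPrime]
    (Q : Ideal C) [Q.IsPrime] (hpQ : p = Q.comap (algebraMap R C)) :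
    IsAzumaya p.ResidueField (p.ResidueField ⊗[R] D) := by
  let ι : p.ResidueField →ₐ[R] Q.ResidueField :=
    Ideal.ResidueField.mapₐ p Q (Algebra.ofId R C) hpQ
  letI := ι.toRingHom.toAlgebra
  haveI : IsScalarTower R p.ResidueField Q.ResidueField :=
    IsScalarTower.of_algebraMap_eq fun r => (ι.commutes r).symm
  haveI h1 : IsAzumaya Q.ResidueField (Q.ResidueField ⊗[C] (C ⊗[R] D)) :=
    Groth.Azum.baseChange C (C ⊗[R] D) Q.ResidueField
  haveI h2 : IsAzumaya Q.ResidueField (Q.ResidueField ⊗[R] D) :=
    IsAzumaya.of_AlgEquiv _ _ _ (cancel R C Q.ResidueField D)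
  haveI h3 : IsAzumaya Q.ResidueField (Q.ResidueField ⊗[p.ResidueField] (p.ResidueField ⊗[R] D)) :=
    IsAzumaya.of_AlgEquiv _ _ _ (cancel R p.ResidueField Q.ResidueField D).symm
  haveI : Module.Finite p.ResidueField (p.ResidueField ⊗[R] D) := inferInstance
  haveI : Module.FinitePresentation p.ResidueField (p.ResidueField ⊗[R] D) :=
    Module.finitePresentation_of_finite _ _
  exact Groth.Azum.of_faithfullyFlat p.ResidueField _ Q.ResidueField

variable {B' B A' A : Type u} [CommRing B'] [CommRing B] [CommRing A'] [CommRing A]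
  [Algebra B' B] [Algebra B' A'] [Algebra B A] [Algebra A' A] [Algebra B' A]
  [IsScalarTower B' B A] [IsScalarTower B' A' A]

theorem isAzumaya_of_baseChange (hsq : EtMil.IsFibreSquare B' B A' A) (D' : Type u) [Ring D']
    [Algebra B' D'] [IsAzumaya B (B ⊗[B'] D')] [IsAzumaya A' (A' ⊗[B'] D')] : IsAzumaya B' D' := by
  haveI : Module.FinitePresentation B (B ⊗[B'] D') := Module.finitePresentation_of_projective B _
  haveI : Module.FinitePresentation A' (A' ⊗[B'] D') := Module.finitePresentation_of_projective A' _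
  haveI := Groth.EtaleAlgebra.Milnor.finite_of_baseChange hsq (L' := D')
  haveI := Groth.EtaleAlgebra.Milnor.flat_of_baseChange hsq (L' := D')
  haveI := Groth.EtaleAlgebra.Milnor.finitePresentation_of_baseChange hsq (L' := D')
  haveI : Module.Projective B' D' := Module.Flat.projective_of_finitePresentation
  refine Groth.Azum.bij_of_fibres B' D' fun p _ => ?_
  rcases Groth.EtaleAlgebra.MilnorSpec.exists_left_or_right hsq ⟨p, inferInstance⟩ with ⟨q, hq⟩ | ⟨q, hq⟩
  · exact fibre_isAzumaya D' p q.asIdeal (congrArg PrimeSpectrum.asIdeal hq).symm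
  · exact fibre_isAzumaya D' p q.asIdeal (congrArg PrimeSpectrum.asIdeal hq).symm

end Groth.AzMilnor
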